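import Mathlib

/-!
# Finite point sets with the Cayley–Bacharach property in projective 3-space

Residuation by linear subspaces and covering by at most `n` subspaces give the classification of
Cayley–Bacharach sets of at most `3 n + 1` points.
-/

set_option autoImplicit false

universe u

open Module Projectivization

namespace Groth.Agent.AdjLin93

variable {k : Type u} [Field k] {m : ℕ}

local notation "V" => (Fin m → k)
local notation "Pt" => Projectivization k (Fin m → k)

/-- Cayley–Bacharach in degree `n`. -/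
def CB (Z : Finset Pt) (n : ℕ) : Prop :=
  ∀ z ∈ Z, ∀ p : MvPolynomial (Fin m) k, p.IsHomogeneous n →
    (∀ z' ∈ Z, z' ≠ z → MvPolynomial.eval z'.rep p = 0) → MvPolynomial.eval z.rep p = 0

open Classical in
/-- The points on a subspace. -/
noncomputable def on (Z : Finset Pt) (W : Submodule k V) : Finset Pt := Z.filter fun z => z.rep ∈ W

open Classical in
/-- The points off a subspace. -/
noncomputable def off (Z : Finset Pt) (W : Submodule k V) : Finset Pt := Z.filter fun z => z.rep ∉ W

theorem mem_on {Z : Finset Pt} {W : Submodule k V} {z : Pt} : z ∈ on Z W ↔ z ∈ Z ∧ z.rep ∈ W := by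
  simp [on]

theorem mem_off {Z : Finset Pt} {W : Submodule k V} {z : Pt} : z ∈ off Z W ↔ z ∈ Z ∧ z.rep ∉ W := by
  simp [off]

theorem card_on_add_off (Z : Finset Pt) (W : Submodule k V) :
    (on Z W).card + (off Z W).card = Z.card := by
  classical
  rw [on, off, Finset.card_filter_add_card_filter_not]

theorem eq_of_rep_mem {z z' : Pt} (h : z.rep ∈ k ∙ z'.rep) : z = z' := by
  obtain ⟨c, hc⟩ := Submodule.mem_span_singleton.1 h
  have hc0 : c ≠ 0 := fun h0 => z.rep_nonzero (by rw [← hc, h0, zero_smul])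
  apply Projectivization.submodule_injective
  rw [submodule_eq, submodule_eq, ← hc, Submodule.span_singleton_smul_eq (isUnit_iff_ne_zero.2 hc0)]

/-- A linear form as a polynomial. -/
noncomputable def linPoly (φ : Dual k V) : MvPolynomial (Fin m) k :=
  ∑ i, MvPolynomial.C (φ (Pi.single i 1)) * MvPolynomial.X i

theorem eval_linPoly (φ : Dual k V) (v : V) : MvPolynomial.eval v (linPoly φ) = φ v := by
  classical
  conv_rhs => rw [pi_eq_sum_univ' v, map_sum]
  simp [linPoly, mul_comm]

theorem isHomogeneous_linPoly (φ : Dual k V) : (linPoly φ).IsHomogeneous 1 :=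
  MvPolynomial.IsHomogeneous.sum _ _ _ fun i _ =>
    (MvPolynomial.isHomogeneous_X k i).C_mul _

theorem exists_form (W : Submodule k V) {v : V} (hv : v ∉ W) :
    ∃ φ : Dual k V, φ v ≠ 0 ∧ ∀ w ∈ W, φ w = 0 := by
  obtain ⟨φ, h1, h2⟩ := Submodule.exists_dual_map_eq_bot_of_notMem hv inferInstance
  refine ⟨φ, h1, fun w hw => ?_⟩
  have := Submodule.mem_map_of_mem (f := φ) hw
  rwa [h2, Submodule.mem_bot] at this

theorem exists_form_finset [Infinite k] (W : Submodule k V) (s : Finset V) (hs : ∀ v ∈ s, v ∉ W) :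
    ∃ φ : Dual k V, (∀ v ∈ s, φ v ≠ 0) ∧ ∀ w ∈ W, φ w = 0 := by
  classical
  induction s using Finset.induction with
  | empty => exact ⟨0, by simp, by simp⟩
  | insert a s ha ih =>
    obtain ⟨φ, h1, h2⟩ := ih fun v hv => hs v (Finset.mem_insert_of_mem hv)
    obtain ⟨ψ, h3, h4⟩ := exists_form W (hs a (Finset.mem_insert_self a s))
    obtain ⟨c, hc⟩ := Infinite.exists_notMem_finset
      ((insert a s).image fun v => -(φ v) / ψ v)
    refine ⟨φ + c • ψ, fun v hv h0 => ?_, fun w hw => by simp [h2 w hw, h4 w hw]⟩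
    simp only [LinearMap.add_apply, LinearMap.smul_apply, smul_eq_mul] at h0
    by_cases hψ : ψ v = 0
    · rw [hψ, mul_zero, add_zero] at h0
      rcases Finset.mem_insert.1 hv with rfl | hv'
      · exact h3 hψ
      · exact h1 v hv' h0
    · refine hc (Finset.mem_image.2 ⟨v, hv, ?_⟩)
      field_simp
      linear_combination -h0

theorem cb_off [Infinite k] {Z : Finset Pt} {n : ℕ} (h : CB Z (n + 1)) (W : Submodule k V) :
    CB (off Z W) n := by
  classical
  intro z hz p hp hvan
  obtain ⟨φ, h1, h2⟩ := exists_form_finset W ((off Z W).image fun z => z.rep)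
    (fun v hv => by
      obtain ⟨w, hw, rfl⟩ := Finset.mem_image.1 hv
      exact (mem_off.1 hw).2)
  obtain ⟨hzZ, hzW⟩ := mem_off.1 hz
  have := h z hzZ (p * linPoly φ) (hp.mul (isHomogeneous_linPoly φ)) fun z' hz' hne => by
    rw [map_mul, eval_linPoly]
    by_cases hW : z'.rep ∈ W
    · rw [h2 _ hW, mul_zero]
    · rw [hvan z' (mem_off.2 ⟨hz', hW⟩) hne, zero_mul]
  rw [map_mul, eval_linPoly] at this
  exact (mul_eq_zero.1 this).resolve_right (h1 _ (Finset.mem_image.2 ⟨z, hz, rfl⟩))

theorem not_cover {Z : Finset Pt} {n : ℕ} (h : CB Z n) {z : Pt} (hz : z ∈ Z)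
    (S : List (Submodule k V)) (hS : S.length ≤ n) (hzS : ∀ W ∈ S, z.rep ∉ W)
    (hcov : ∀ z' ∈ Z, z' ≠ z → ∃ W ∈ S, z'.rep ∈ W) : False := by
  classical
  choose! φ h1 h2 using fun (W : Submodule k V) (hW : z.rep ∉ W) => exists_form W hW
  obtain ⟨ψ, hψ, -⟩ := exists_form (⊥ : Submodule k V) (v := z.rep)
    (by simpa using z.rep_nonzero)
  have hhom : ((S.map fun W => linPoly (φ W)).prod * linPoly ψ ^ (n - S.length)).IsHomogeneous n := by
    have hp : ∀ L : List (Submodule k V),
        ((L.map fun W => linPoly (φ W)).prod).IsHomogeneous L.length := by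
      intro L
      induction L with
      | nil => simpa using MvPolynomial.isHomogeneous_one (Fin m) k
      | cons W L ih =>
        rw [List.map_cons, List.prod_cons, List.length_cons, add_comm]
        exact (isHomogeneous_linPoly _).mul ih
    have := (hp S).mul ((isHomogeneous_linPoly ψ).pow (n - S.length))
    rwa [one_mul, Nat.add_sub_cancel' hS] at this
  have := h z hz _ hhom fun z' hz' hne => by
    obtain ⟨W, hW, hW'⟩ := hcov z' hz' hne
    rw [map_mul, map_list_prod, List.map_map]
    refine mul_eq_zero_of_left (List.prod_eq_zero (List.mem_map.2 ⟨W, hW, ?_⟩)) _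
    simp [eval_linPoly, h2 W (hzS W hW) _ hW']
  rw [map_mul, map_list_prod, List.map_map, map_pow, eval_linPoly] at this
  refine mul_ne_zero ?_ (pow_ne_zero _ hψ) this
  refine List.prod_ne_zero ?_
  intro hmem
  obtain ⟨W, hW, hW'⟩ := List.mem_map.1 hmem
  simp [eval_linPoly] at hW'
  exact h1 W (hzS W hW) hW'

theorem two_add_le_card {Z : Finset Pt} {n : ℕ} (h : CB Z n) (hne : Z.Nonempty) :
    n + 2 ≤ Z.card := by
  classical
  by_contra hlt
  obtain ⟨z, hz⟩ := hne
  refine not_cover h hz ((Z.erase z).toList.map fun z' => k ∙ z'.rep) ?_ ?_ ?_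
  · rw [List.length_map, Finset.length_toList, Finset.card_erase_of_mem hz]; omega
  · intro W hW
    obtain ⟨z', hz', rfl⟩ := List.mem_map.1 hW
    intro hmem
    exact (Finset.mem_erase.1 (Finset.mem_toList.1 hz')).1 (eq_of_rep_mem hmem).symm
  · exact fun z' hz' hne' => ⟨_, List.mem_map.2 ⟨z', Finset.mem_toList.2 (Finset.mem_erase.2 ⟨hne', hz'⟩), rfl⟩,
      Submodule.mem_span_singleton_self _⟩

theorem exists_le_finrank_eq (W : Submodule k V) {d : ℕ} (hW : finrank k W ≤ d) (hd : d ≤ m) :
    ∃ W' : Submodule k V, W ≤ W' ∧ finrank k W' = d := by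
  induction hk : d - finrank k W generalizing W with
  | zero => exact ⟨W, le_rfl, by omega⟩
  | succ j ih =>
    obtain ⟨v, -, hv⟩ := SetLike.exists_of_lt (lt_top_iff_ne_top.2 (show W ≠ ⊤ from fun h => by
      rw [h, finrank_top, finrank_fin_fun] at hk; omega))
    have hinf : W ⊓ (k ∙ v) = ⊥ := by
      rw [Submodule.eq_bot_iff]
      rintro x ⟨hx, hx'⟩
      obtain ⟨c, rfl⟩ := Submodule.mem_span_singleton.1 hx'
      by_contra hc
      exact hv ((Submodule.smul_mem_iff W (left_ne_zero_of_smul hc)).1 hx)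
    have h1 := Submodule.finrank_sup_add_finrank_inf_eq W (k ∙ v)
    rw [hinf, finrank_bot, finrank_span_singleton (fun h0 : v = 0 => hv (h0 ▸ W.zero_mem))] at h1
    obtain ⟨W', h2, h3⟩ := ih (W ⊔ (k ∙ v)) (by omega) (by omega)
    exact ⟨W', le_sup_left.trans h2, h3⟩

/-- Contained in a subspace of dimension `d`. -/
def InDim (Z : Finset Pt) (d : ℕ) : Prop :=
  ∃ W : Submodule k V, finrank k W = d ∧ ∀ z ∈ Z, z.rep ∈ W

theorem finrank_sup_le (W W' : Submodule k V) : finrank k ↥(W ⊔ W') ≤ finrank k W + finrank k W' :=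
  Submodule.finrank_add_le_finrank_add_finrank W W'

theorem finrank_line (z : Pt) : finrank k (k ∙ z.rep) = 1 := finrank_span_singleton z.rep_nonzero

theorem collinear [Infinite k] (hm : 2 ≤ m) : ∀ (n : ℕ) {Z : Finset Pt}, CB Z n →
    Z.card ≤ 2 * n + 1 → InDim Z 2 := by
  intro n
  induction n with
  | zero =>
    intro Z h hcard
    rcases Z.eq_empty_or_nonempty with rfl | hne
    · obtain ⟨W, -, hW⟩ := exists_le_finrank_eq (⊥ : Submodule k V) (d := 2) (by simp) hm
      exact ⟨W, hW, by simp⟩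
    · have := two_add_le_card h hne; omega
  | succ n ih =>
    intro Z h hcard
    classical
    let S : Set (Submodule k V) := {W | finrank k W = 2}
    obtain ⟨L₀, -, hL₀⟩ := exists_le_finrank_eq (⊥ : Submodule k V) (d := 2) (by simp) hm
    have hbdd : BddAbove ((fun W => (on Z W).card) '' S) :=
      ⟨Z.card, by rintro _ ⟨W, -, rfl⟩; exact Finset.card_filter_le _ _⟩
    obtain ⟨L, hL, hLmax⟩ := Nat.sSup_mem (Set.Nonempty.image _ ⟨L₀, hL₀⟩) hbdd
    by_contra hcon
    have hR : (off Z L).Nonempty := by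
      by_contra he
      exact hcon ⟨L, hL, fun z hz => by
        by_contra hzL
        exact he ⟨z, mem_off.2 ⟨hz, hzL⟩⟩⟩
    have hmax : ∀ W : Submodule k V, finrank k W = 2 → (on Z W).card ≤ (on Z L).card :=
      fun W hW => (le_csSup hbdd ⟨W, hW, rfl⟩).trans hLmax.ge
    have h2 : 2 ≤ (on Z L).card := by
      obtain ⟨a, ha, b, hb, hab⟩ : ∃ a ∈ Z, ∃ b ∈ Z, a ≠ b := by
        by_contra! hall
        have := two_add_le_card h (hR.mono fun z hz => (mem_off.1 hz).1)
        have : Z.card ≤ 1 := Finset.card_le_one.2 hall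
        omega
      obtain ⟨W, hle, hW⟩ := exists_le_finrank_eq ((k ∙ a.rep) ⊔ (k ∙ b.rep))
        ((finrank_sup_le _ _).trans (by rw [finrank_line, finrank_line])) hm
      refine le_trans ?_ (hmax W hW)
      refine Finset.one_lt_card.2 ⟨a, ?_, b, ?_, hab⟩
      · exact mem_on.2 ⟨ha, hle (Submodule.mem_sup_left (Submodule.mem_span_singleton_self _))⟩
      · exact mem_on.2 ⟨hb, hle (Submodule.mem_sup_right (Submodule.mem_span_singleton_self _))⟩
    have hadd := card_on_add_off Z L
    obtain ⟨M, hM, hMR⟩ := ih (cb_off h L) (by omega)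
    have h3 := two_add_le_card (cb_off h L) hR
    have h4 : (off Z L).card ≤ (on Z L).card :=
      le_trans (Finset.card_le_card fun z hz => mem_on.2 ⟨(mem_off.1 hz).1, hMR z hz⟩) (hmax M hM)
    omega

/-- On two skew lines. -/
def Two (Z : Finset Pt) (n : ℕ) : Prop :=
  ∃ L M : Submodule k V, finrank k L = 2 ∧ finrank k M = 2 ∧ L ⊓ M = ⊥ ∧
    (∀ z ∈ Z, z.rep ∈ L ∨ z.rep ∈ M) ∧ n + 2 ≤ (on Z L).card ∧ n + 2 ≤ (on Z M).card

theorem card_on_sup_eq (Z : Finset Pt) {L M : Submodule k V} (hLM : L ⊓ M = ⊥) :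
    (on Z L).card + (on Z M).card ≤ Z.card := by
  classical
  rw [← Finset.card_union_of_disjoint]
  · exact Finset.card_le_card (Finset.union_subset (Finset.filter_subset _ _) (Finset.filter_subset _ _))
  · rw [Finset.disjoint_left]
    intro z hz hz'
    exact z.rep_nonzero ((Submodule.eq_bot_iff _).1 hLM _ ⟨(mem_on.1 hz).2, (mem_on.1 hz').2⟩)

theorem line_count {Z : Finset Pt} {n : ℕ} (h : CB Z n) (hn : 1 ≤ n) {L M : Submodule k V}
    (hLM : L ⊓ M = ⊥) (hcov : ∀ z ∈ Z, z.rep ∈ L ∨ z.rep ∈ M) (hne : (on Z L).Nonempty) :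
    n + 2 ≤ (on Z L).card := by
  classical
  by_contra hlt
  obtain ⟨z, hz⟩ := hne
  obtain ⟨hzZ, hzL⟩ := mem_on.1 hz
  have hzM : z.rep ∉ M := fun hM =>
    z.rep_nonzero ((Submodule.eq_bot_iff _).1 hLM _ ⟨hzL, hM⟩)
  refine not_cover h hzZ
    (if ((on Z L).erase z) = ∅ then [M] else ((on Z L).erase z).toList.map fun z' => M ⊔ (k ∙ z'.rep))
    ?_ ?_ ?_
  · split_ifs
    · simpa using hn
    · rw [List.length_map, Finset.length_toList, Finset.card_erase_of_mem hz]; omega
  · intro W hW
    split_ifs at hW with he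
    · rw [List.mem_singleton] at hW; exact hW ▸ hzM
    obtain ⟨z', hz', rfl⟩ := List.mem_map.1 hW
    rw [Finset.mem_toList, Finset.mem_erase] at hz'
    intro hmem
    obtain ⟨a, ha, b, hb, hab⟩ := Submodule.mem_sup.1 hmem
    obtain ⟨c, rfl⟩ := Submodule.mem_span_singleton.1 hb
    have haL : a ∈ L := by
      rw [show a = z.rep - c • z'.rep from eq_sub_of_add_eq hab]
      exact L.sub_mem hzL (L.smul_mem c (mem_on.1 hz'.2).2)
    rw [(Submodule.eq_bot_iff _).1 hLM a ⟨haL, ha⟩, zero_add] at hab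
    exact hz'.1 (eq_of_rep_mem (Submodule.mem_span_singleton.2 ⟨c, hab⟩)).symm
  · intro z' hz' hne'
    split_ifs with he
    · refine ⟨M, List.mem_singleton_self M, (hcov z' hz').resolve_left fun hL => ?_⟩
      exact (Finset.eq_empty_iff_forall_notMem.1 he z')
        (Finset.mem_erase.2 ⟨hne', mem_on.2 ⟨hz', hL⟩⟩)
    rcases hcov z' hz' with hL | hM
    · exact ⟨_, List.mem_map.2 ⟨z', Finset.mem_toList.2 (Finset.mem_erase.2 ⟨hne', mem_on.2 ⟨hz', hL⟩⟩), rfl⟩,
        Submodule.mem_sup_right (Submodule.mem_span_singleton_self _)⟩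
    · obtain ⟨w, hw⟩ := Finset.nonempty_iff_ne_empty.2 he
      exact ⟨_, List.mem_map.2 ⟨w, Finset.mem_toList.2 hw, rfl⟩, Submodule.mem_sup_left hM⟩

theorem classification [Infinite k] (hm : m = 4) : ∀ (n : ℕ) {Z : Finset Pt}, 1 ≤ n → CB Z n →
    Z.card ≤ 3 * n + 1 → InDim Z 3 ∨ Two Z n := by
  intro n
  induction n with
  | zero => intro Z h; omega
  | succ n ih =>
    intro Z _ h hcard
    classical
    rcases Nat.eq_zero_or_pos n with rfl | hn
    · left
      rcases Z.eq_empty_or_nonempty with rfl | ⟨z, hz⟩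
      · obtain ⟨W, -, hW⟩ := exists_le_finrank_eq (⊥ : Submodule k V) (d := 3) (by simp) (by omega)
        exact ⟨W, hW, by simp⟩
      let W₁ : Submodule k V := Submodule.span k (((Z.erase z).image fun z => z.rep : Finset V) : Set V)
      have hzW : z.rep ∈ W₁ := by
        by_contra hzW
        exact not_cover h hz [W₁] (by simp) (by simpa using hzW) fun z' hz' hne =>
          ⟨W₁, List.mem_singleton_self _, Submodule.subset_span
            (Finset.mem_image.2 ⟨z', Finset.mem_erase.2 ⟨hne, hz'⟩, rfl⟩)⟩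
      have hrk : finrank k W₁ ≤ 3 := (finrank_span_finset_le_card _).trans
        (Finset.card_image_le.trans (by rw [Finset.card_erase_of_mem hz]; omega))
      obtain ⟨W, hle, hW⟩ := exists_le_finrank_eq W₁ hrk (by omega)
      refine ⟨W, hW, fun z' hz' => hle ?_⟩
      rcases eq_or_ne z' z with rfl | hne
      · exact hzW
      · exact Submodule.subset_span (Finset.mem_image.2 ⟨z', Finset.mem_erase.2 ⟨hne, hz'⟩, rfl⟩)
    by_contra hcon
    rw [not_or] at hcon
    obtain ⟨hc3, hc2⟩ := hcon
    -- a plane with the most points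
    let S : Set (Submodule k V) := {W | finrank k W = 3}
    obtain ⟨P₀, -, hP₀⟩ := exists_le_finrank_eq (⊥ : Submodule k V) (d := 3) (by simp) (by omega)
    have hbdd : BddAbove ((fun W => (on Z W).card) '' S) :=
      ⟨Z.card, by rintro _ ⟨W, -, rfl⟩; exact Finset.card_filter_le _ _⟩
    obtain ⟨P, hP, hPmax⟩ := Nat.sSup_mem (Set.Nonempty.image _ ⟨P₀, hP₀⟩) hbdd
    have hmax : ∀ W : Submodule k V, finrank k W ≤ 3 → (on Z W).card ≤ (on Z P).card := by
      intro W hW
      obtain ⟨W', hle, hW'⟩ := exists_le_finrank_eq W hW (by omega)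
      exact (Finset.card_le_card fun z hz => mem_on.2 ⟨(mem_on.1 hz).1, hle (mem_on.1 hz).2⟩).trans
        ((le_csSup hbdd ⟨W', hW', rfl⟩).trans hPmax.ge)
    have hoff : ∀ W : Submodule k V, finrank k W ≤ 3 → (off Z W).Nonempty := by
      intro W hW
      by_contra he
      obtain ⟨W', hle, hW'⟩ := exists_le_finrank_eq W hW (by omega)
      exact hc3 ⟨W', hW', fun z hz => hle (by
        by_contra hzW
        exact he ⟨z, mem_off.2 ⟨hz, hzW⟩⟩)⟩
    have hZ : ∀ {W : Submodule k V}, (off Z W).card + (on Z W).card = Z.card :=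
      fun {W} => (add_comm _ _).trans (card_on_add_off Z W)
    have h3 : 3 ≤ (on Z P).card := by
      have := two_add_le_card h ((hoff P hP.le).mono fun z hz => (mem_off.1 hz).1)
      obtain ⟨T, hT, hT3⟩ := Finset.exists_subset_card_eq (s := Z) (n := 3) (by omega)
      refine le_trans ?_ (hmax (Submodule.span k ((T.image fun z => z.rep : Finset V) : Set V))
        ((finrank_span_finset_le_card _).trans (Finset.card_image_le.trans hT3.le)))
      rw [← hT3]
      exact Finset.card_le_card fun z hz => mem_on.2 ⟨hT hz,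
        Submodule.subset_span (Finset.mem_image.2 ⟨z, hz, rfl⟩)⟩
    have hres := ih hn (cb_off h P) (by have := hZ (W := P); omega)
    have hline : ∃ L : Submodule k V, finrank k L = 2 ∧ n + 2 ≤ (on Z L).card := by
      rcases hres with ⟨W, hW, hWR⟩ | ⟨L, M, hL, hM, hLM, hcov, hLc, hMc⟩
      · have h1 : (off Z P).card ≤ (on Z P).card :=
          (Finset.card_le_card fun z hz => mem_on.2 ⟨(mem_off.1 hz).1, hWR z hz⟩).trans (hmax W hW.le)
        have h2 := hZ (W := P)
        obtain ⟨L, hL, hLR⟩ := collinear (by omega) n (cb_off h P) (by omega)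
        refine ⟨L, hL, (two_add_le_card (cb_off h P) (hoff P hP.le)).trans ?_⟩
        exact Finset.card_le_card fun z hz => mem_on.2 ⟨(mem_off.1 hz).1, hLR z hz⟩
      · refine ⟨L, hL, hLc.trans ?_⟩
        exact Finset.card_le_card fun z hz =>
          mem_on.2 ⟨(mem_off.1 (mem_on.1 hz).1).1, (mem_on.1 hz).2⟩
    obtain ⟨L, hL, hLc⟩ := hline
    obtain ⟨z, hz⟩ := hoff L (by omega)
    obtain ⟨hzZ, hzL⟩ := mem_off.1 hz
    let Q : Submodule k V := L ⊔ (k ∙ z.rep)
    have hQ : finrank k Q ≤ 3 := (finrank_sup_le _ _).trans (by rw [hL, finrank_line])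
    have hQc : n + 3 ≤ (on Z Q).card := by
      have hsub : insert z (on Z L) ⊆ on Z Q := by
        intro w hw
        rcases Finset.mem_insert.1 hw with rfl | hw
        · exact mem_on.2 ⟨hzZ, Submodule.mem_sup_right (Submodule.mem_span_singleton_self _)⟩
        · exact mem_on.2 ⟨(mem_on.1 hw).1, Submodule.mem_sup_left (mem_on.1 hw).2⟩
      have := Finset.card_le_card hsub
      rw [Finset.card_insert_of_notMem fun hw => hzL (mem_on.1 hw).2] at this
      omega
    have hQ2 := hZ (W := Q)
    obtain ⟨M, hM, hMR⟩ := collinear (by omega) n (cb_off h Q) (by omega)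
    have hR := two_add_le_card (cb_off h Q) (hoff Q hQ)
    have hsubM : off Z Q ⊆ on Z M := fun w hw => mem_on.2 ⟨(mem_off.1 hw).1, hMR w hw⟩
    have hMc : n + 2 ≤ (on Z M).card := hR.trans (Finset.card_le_card hsubM)
    by_cases hLM : L ⊓ M = ⊥
    swap
    · -- the two lines span a plane
      have hfr : finrank k ↥(L ⊔ M) ≤ 3 := by
        have h1 := Submodule.finrank_sup_add_finrank_inf_eq L M
        have : finrank k ↥(L ⊓ M) ≠ 0 := fun h0 => hLM (Submodule.finrank_eq_zero.1 h0)
        omega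
      have hdis : Disjoint (on Z L) (off Z Q) := Finset.disjoint_left.2 fun w hw hw' =>
        (mem_off.1 hw').2 (Submodule.mem_sup_left (mem_on.1 hw).2)
      have hsub : on Z L ∪ off Z Q ⊆ on Z (L ⊔ M) := Finset.union_subset
        (fun w hw => mem_on.2 ⟨(mem_on.1 hw).1, Submodule.mem_sup_left (mem_on.1 hw).2⟩)
        (fun w hw => mem_on.2 ⟨(mem_off.1 hw).1, Submodule.mem_sup_right (hMR w hw)⟩)
      have h1 := Finset.card_le_card hsub
      rw [Finset.card_union_of_disjoint hdis] at h1
      have h2 := two_add_le_card (cb_off h (L ⊔ M)) (hoff _ hfr)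
      have h4 := hZ (W := L ⊔ M)
      omega
    -- two skew lines: nothing lies outside
    have hsum := card_on_sup_eq Z hLM
    have hcov : ∀ w ∈ Z, w.rep ∈ L ∨ w.rep ∈ M := by
      intro w hw
      by_contra hwo
      rw [not_or] at hwo
      let E := (Z.filter fun v => v.rep ∉ L ∧ v.rep ∉ M).erase w
      have hEc : E.card + 1 + (on Z L).card + (on Z M).card ≤ Z.card := by
        have hwF : w ∈ Z.filter fun v => v.rep ∉ L ∧ v.rep ∉ M := Finset.mem_filter.2 ⟨hw, hwo⟩
        rw [Finset.card_erase_add_one hwF, add_assoc, ← Finset.card_union_of_disjoint,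
          ← Finset.card_union_of_disjoint]
        · exact Finset.card_le_card (Finset.union_subset (Finset.filter_subset _ _)
            (Finset.union_subset (Finset.filter_subset _ _) (Finset.filter_subset _ _)))
        · rw [Finset.disjoint_union_right]
          exact ⟨Finset.disjoint_left.2 fun v hv hv' => (Finset.mem_filter.1 hv).2.1 (mem_on.1 hv').2,
            Finset.disjoint_left.2 fun v hv hv' => (Finset.mem_filter.1 hv).2.2 (mem_on.1 hv').2⟩
        · exact Finset.disjoint_left.2 fun v hv hv' => v.rep_nonzero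
            ((Submodule.eq_bot_iff _).1 hLM _ ⟨(mem_on.1 hv).2, (mem_on.1 hv').2⟩)
      refine not_cover h hw (L :: M :: E.toList.map fun v => k ∙ v.rep) ?_ ?_ ?_
      · simp only [List.length_cons, List.length_map, Finset.length_toList]; omega
      · intro W hW
        rcases List.mem_cons.1 hW with rfl | hW
        · exact hwo.1
        rcases List.mem_cons.1 hW with rfl | hW
        · exact hwo.2
        obtain ⟨v, hv, rfl⟩ := List.mem_map.1 hW
        intro hmem
        exact (Finset.mem_erase.1 (Finset.mem_toList.1 hv)).1 (eq_of_rep_mem hmem).symm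
      · intro v hv hne
        by_cases hvL : v.rep ∈ L
        · exact ⟨L, by simp, hvL⟩
        by_cases hvM : v.rep ∈ M
        · exact ⟨M, by simp, hvM⟩
        exact ⟨k ∙ v.rep, List.mem_cons_of_mem _ (List.mem_cons_of_mem _ (List.mem_map.2
          ⟨v, Finset.mem_toList.2 (Finset.mem_erase.2 ⟨hne, Finset.mem_filter.2 ⟨hv, hvL, hvM⟩⟩), rfl⟩)),
          Submodule.mem_span_singleton_self _⟩
    refine hc2 ⟨L, M, hL, hM, hLM, hcov, ?_, ?_⟩
    · exact line_count h (by omega) hLM hcov (Finset.card_pos.1 (by omega))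
    · exact line_count h (by omega) (inf_comm L M ▸ hLM) (fun v hv => (hcov v hv).symm)
        (Finset.card_pos.1 (by omega))

end Groth.Agent.AdjLin93
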